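import Groth.Agent.DirImgLib.Extend
import Groth.Agent.ClSubLib.EssSurj
import Groth.Agent.DefLift.HomLift
import Groth.Agent.TMul.GlobGen
import Groth.Agent.TMul.AmpleBasis

/-!
# The split square-zero thickening by an invertible module
-/

set_option autoImplicit false
set_option backward.isDefEq.respectTransparency false
set_option backward.isDefEq.respectTransparency.types false
set_option linter.style.haveILetI false

universe u

open CategoryTheory CategoryTheory.Limits AlgebraicGeometry TopologicalSpace Opposite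
open Groth.Agent Groth.Agent.QC

noncomputable section

namespace Groth.Agent.SplitRibbon

theorem exists_split (D : Scheme.{u}) (L : D.Modules) (hL : Coh.IsQCoh L) (hFT : CohB1.IsFT L) :
    ∃ (C : Scheme.{u}) (r : C ⟶ D) (s : D ⟶ C), IsFinite r ∧ s ≫ r = 𝟙 D ∧ IsClosedImmersion s ∧
      s.ker ^ 2 = ⊥ ∧ Nonempty ((Scheme.Modules.pullback s).obj (ClSub.idealMod s.ker) ≅ L) := by
  classical
  let f : D ⟶ D := 𝟙 D
  let M := (AMod.dirImg f).obj L
  have hM : Coh.IsQCoh ((AMod.toOS (RelSpec.QCAlg.directImage f)).obj M) :=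
    QC.isQCoh_pushforward f (hM := hL)
  obtain ⟨C, r, _, s, hs, γ, _, h1, h2⟩ := DirImgExt.exists_data f M hM
  haveI : IsClosedImmersion s := by
    haveI : IsClosedImmersion (s ≫ r) := by rw [hs]; infer_instance
    exact IsClosedImmersion.of_comp s r
  have hγ : ∀ U : D.Opens, Function.Bijective (γ.app (op U)) := fun U =>
    ConcreteCategory.bijective_of_isIso (γ.app (op U))
  have hle : ∀ V : D.Opens, V ≤ s ⁻¹ᵁ (r ⁻¹ᵁ V) := fun V => by
    rw [← Scheme.Hom.comp_preimage, hs]; exact le_rfl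
  have hfst : ∀ (U : D.Opens) (b : Γ(C, r ⁻¹ᵁ U)),
      TrivSqZeroExt.fst (γ.app (op U) b : DirImgExt.Ext f M U) = s.appLE (r ⁻¹ᵁ U) U (hle U) b := fun U b => by
    have := congr($(NatTrans.congr_app h2 (op U)) b)
    rw [RelSpecUP.algHom_app] at this
    exact this
  have hinl : ∀ (U : D.Opens) (a : Γ(D, U)),
      (γ.app (op U) (r.app U a) : DirImgExt.Ext f M U) = TrivSqZeroExt.inl a := fun U a => by
    have := congr($(NatTrans.congr_app h1 (op U)) a)
    rw [NatTrans.comp_app, RelSpecUP.algHom_app] at this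
    refine Eq.trans ?_ this
    rw [CommRingCat.comp_apply]
    exact congrArg (γ.app (op U)) (congr($(Scheme.Hom.app_eq_appLE (f := r) (U := U)) a))
  -- the kernel on the preimages
  have hker : ∀ (U : D.Opens) (b : Γ(C, r ⁻¹ᵁ U)), s.app (r ⁻¹ᵁ U) b = 0 ↔
      TrivSqZeroExt.fst (γ.app (op U) b : DirImgExt.Ext f M U) = 0 := fun U b => by
    rw [hfst]
    have heq : U = s ⁻¹ᵁ (r ⁻¹ᵁ U) := by rw [← Scheme.Hom.comp_preimage, hs]; rfl
    haveI : IsIso (D.presheaf.map (homOfLE (hle U)).op) := by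
      rw [show homOfLE (hle U) = eqToHom heq from Subsingleton.elim _ _]
      infer_instance
    exact ((ConcreteCategory.bijective_of_isIso (D.presheaf.map (homOfLE (hle U)).op)).1.eq_iff'
      (map_zero _)).symm
  have hsub : ∀ (W : C.Opens) (b : Γ(C, W)), s.ker.subschemeι.app W b = 0 ↔ s.app W b = 0 := fun W b => by
    have key : ∀ (φ : D ⟶ C), φ = s.toImage ≫ s.ker.subschemeι →
        (φ.app W b = 0 ↔ s.ker.subschemeι.app W b = 0) := by
      rintro _ rfl
      rw [Scheme.Hom.comp_app, CommRingCat.comp_apply]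
      exact (ConcreteCategory.bijective_of_isIso (s.toImage.app (s.ker.subschemeι ⁻¹ᵁ W))).1.eq_iff' (map_zero _)
    exact (key s s.toImage_imageι.symm).symm
  -- square zero
  have hI2 : s.ker ^ 2 = ⊥ := by
    refine Scheme.IdealSheafData.ext_of_iSup_eq_top (fun U : D.affineOpens => ⟨r ⁻¹ᵁ U.1, U.2.preimage r⟩) ?_ fun U => ?_
    · show ⨆ U : D.affineOpens, r ⁻¹ᵁ U.1 = ⊤
      rw [← Scheme.Hom.preimage_iSup, iSup_affineOpens_eq_top]; rfl
    · rw [Scheme.IdealSheafData.ideal_pow, Pi.pow_apply, Scheme.IdealSheafData.ideal_bot, Pi.bot_apply,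
        pow_two, eq_bot_iff, Ideal.mul_le]
      intro x hx y hy
      rw [Scheme.Hom.ker_apply, RingHom.mem_ker] at hx hy
      rw [Ideal.mem_bot]
      refine (hγ U.1).1 ?_
      rw [map_mul, map_zero]
      have hx' := (hker U.1 x).1 hx
      have hy' := (hker U.1 y).1 hy
      refine TrivSqZeroExt.ext ?_ ?_
      · exact (TrivSqZeroExt.fst_mul _ _).trans (by rw [hx', zero_mul]; rfl)
      · exact (TrivSqZeroExt.snd_mul _ _).trans (by rw [hx', hy']; simp)
  -- finiteness
  haveI : IsFinite r := by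
    refine ⟨fun U hU => ?_⟩
    haveI : Module.Finite Γ(D, U) Γ(L, U) := QC.finite_sections hU hFT
    obtain ⟨T, hT⟩ := Module.Finite.fg_top (R := Γ(D, U)) (M := Γ(L, U))
    letI : Algebra Γ(D, U) Γ(C, r ⁻¹ᵁ U) := (r.app U).hom.toAlgebra
    let inv' : DirImgExt.Ext f M U → Γ(C, r ⁻¹ᵁ U) := fun x => ((hγ U).2 x).choose
    have hinv : ∀ x, (γ.app (op U) (inv' x) : DirImgExt.Ext f M U) = x := fun x => ((hγ U).2 x).choose_spec
    show Module.Finite Γ(D, U) Γ(C, r ⁻¹ᵁ U)
    refine ⟨insert 1 (T.image fun m => inv' (TrivSqZeroExt.inr (show DirImgExt.Sec f M U from m))), ?_⟩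
    rw [eq_top_iff]
    intro b _
    let N : Submodule Γ(D, U) Γ(C, r ⁻¹ᵁ U) := Submodule.span Γ(D, U)
      ((insert 1 (T.image fun m => inv' (TrivSqZeroExt.inr (show DirImgExt.Sec f M U from m))) : Finset _) : Set _)
    show b ∈ N
    have hsmul : ∀ (a : Γ(D, U)) (x : Γ(C, r ⁻¹ᵁ U)),
        (γ.app (op U) (a • x) : DirImgExt.Ext f M U) =
          (TrivSqZeroExt.inl a : DirImgExt.Ext f M U) * (show DirImgExt.Ext f M U from γ.app (op U) x) := fun a x => by
      rw [← hinl]
      exact map_mul (γ.app (op U)).hom _ _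
    have hinr : ∀ m : Γ(L, U), inv' (TrivSqZeroExt.inr (show DirImgExt.Sec f M U from m)) ∈ N := fun m => by
      have hm : m ∈ Submodule.span Γ(D, U) (T : Set Γ(L, U)) := by rw [hT]; trivial
      induction hm using Submodule.span_induction with
      | mem x hx => exact Submodule.subset_span (Finset.mem_insert_of_mem (Finset.mem_image_of_mem _ hx))
      | zero =>
        have : inv' (TrivSqZeroExt.inr (show DirImgExt.Sec f M U from (0 : Γ(L, U)))) = 0 :=
          (hγ U).1 (by rw [hinv, map_zero]; exact TrivSqZeroExt.inr_zero _)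
        rw [this]; exact N.zero_mem
      | add x y _ _ hx hy =>
        have : inv' (TrivSqZeroExt.inr (show DirImgExt.Sec f M U from x + y)) =
            inv' (TrivSqZeroExt.inr (show DirImgExt.Sec f M U from x)) +
              inv' (TrivSqZeroExt.inr (show DirImgExt.Sec f M U from y)) :=
          (hγ U).1 (by rw [map_add, hinv, hinv, hinv]; exact TrivSqZeroExt.inr_add _ _ _)
        rw [this]; exact N.add_mem hx hy
      | smul a x _ hx =>
        have : inv' (TrivSqZeroExt.inr (show DirImgExt.Sec f M U from a • x)) =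
            a • inv' (TrivSqZeroExt.inr (show DirImgExt.Sec f M U from x)) :=
          (hγ U).1 (by rw [hsmul, hinv, hinv]; exact (TrivSqZeroExt.inl_mul_inr _ _).symm)
        rw [this]; exact N.smul_mem a hx
    let x : DirImgExt.Ext f M U := γ.app (op U) b
    have hb : b = (show Γ(D, U) from x.fst) • (1 : Γ(C, r ⁻¹ᵁ U)) + inv' (TrivSqZeroExt.inr x.snd) := by
      refine (hγ U).1 ?_
      rw [map_add, hsmul, map_one, mul_one, hinv]
      exact (TrivSqZeroExt.inl_fst_add_inr_snd_eq x).symm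
    rw [hb]
    exact N.add_mem (N.smul_mem _ (Submodule.subset_span (Finset.mem_insert_self _ _))) (hinr x.snd)
  refine ⟨C, r, s, ‹_›, hs, ‹_›, hI2, ?_⟩
  -- the ideal
  let ι := ClSub.idealModι s.ker
  haveI : Mono ι := by dsimp [ι, ClSub.idealModι]; infer_instance
  let ψ : ∀ U : D.Opens, Γ(ClSub.idealMod s.ker, r ⁻¹ᵁ U) →+ DirImgExt.Sec f M U := fun U =>
    AddMonoidHom.mk' (fun t => TrivSqZeroExt.snd (γ.app (op U) (ι.app (r ⁻¹ᵁ U) t) : DirImgExt.Ext f M U))
      (fun a b => by rw [map_add, map_add]; exact TrivSqZeroExt.snd_add _ _)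
  have hι : ∀ (U : D.Opens) (t : Γ(ClSub.idealMod s.ker, r ⁻¹ᵁ U)),
      TrivSqZeroExt.fst (γ.app (op U) (ι.app (r ⁻¹ᵁ U) t) : DirImgExt.Ext f M U) = 0 := fun U t =>
    (hker U _).1 ((hsub _ _).1 ((QC.mem_range_idealModι s.ker _ _).1 ⟨t, rfl⟩))
  have hψb : ∀ U, Function.Bijective (ψ U) := fun U => by
    refine ⟨fun a b e => ?_, fun m => ?_⟩
    · exact QC.app_injective_of_mono ι _ ((hγ U).1 (TrivSqZeroExt.ext ((hι U a).trans (hι U b).symm) e))
    · obtain ⟨b, hb⟩ := (hγ U).2 (TrivSqZeroExt.inr m : DirImgExt.Ext f M U)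
      obtain ⟨t, ht⟩ := (QC.mem_range_idealModι s.ker _ b).2 ((hsub _ _).2 ((hker U b).2 (by
        rw [hb]; exact TrivSqZeroExt.fst_inr _ m)))
      refine ⟨t, ?_⟩
      change TrivSqZeroExt.snd (γ.app (op U) (ι.app _ t) : DirImgExt.Ext f M U) = m
      rw [ht, hb]; exact TrivSqZeroExt.snd_inr _ m
  have hψs : ∀ (U : D.Opens) (a : Γ(D, U)) (t : Γ(ClSub.idealMod s.ker, r ⁻¹ᵁ U)),
      ψ U ((r.app U a) • t) = (show Γ(D, f ⁻¹ᵁ U) from a) • ψ U t := fun U a t => by
    change TrivSqZeroExt.snd (γ.app (op U) (ι.app _ ((r.app U a) • t)) : DirImgExt.Ext f M U) = _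
    rw [Scheme.Modules.Hom.app_smul]
    change TrivSqZeroExt.snd (γ.app (op U) (r.app U a * (show Γ(C, r ⁻¹ᵁ U) from ι.app (r ⁻¹ᵁ U) t)) : DirImgExt.Ext f M U) = _
    rw [map_mul]
    change TrivSqZeroExt.snd ((γ.app (op U) (r.app U a) : DirImgExt.Ext f M U) * _) = _
    rw [hinl, TrivSqZeroExt.snd_mul, TrivSqZeroExt.fst_inl, TrivSqZeroExt.snd_inl]
    simp
    rfl
  let e : (Scheme.Modules.pushforward r).obj (ClSub.idealMod s.ker) ≅ L :=
    (SheafOfModules.fullyFaithfulForget _).preimageIso (PresheafOfModules.isoMk (fun U => (LinearEquiv.toModuleIso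
      (LinearEquiv.ofBijective
        ({ toFun := fun t => (show Γ(L, U.unop) from ψ U.unop t), map_add' := fun a b => map_add (ψ U.unop) a b,
           map_smul' := fun a t => hψs U.unop a t } :
          ((Scheme.Modules.pushforward r).obj (ClSub.idealMod s.ker)).val.obj U →ₗ[_] L.val.obj U) (hψb U.unop))))
      (fun U V i => by
        ext t
        change ψ V.unop (QC.res (ClSub.idealMod s.ker) (r.preimage_mono i.unop.le) t) =
          DirImgExt.rs f M i.unop.le (ψ U.unop t)
        change TrivSqZeroExt.snd (γ.app (op V.unop) (show Γ(C, r ⁻¹ᵁ V.unop) from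
          ι.app _ (QC.res (ClSub.idealMod s.ker) (r.preimage_mono i.unop.le) t)) : DirImgExt.Ext f M V.unop) = _
        rw [← QC.app_res]
        refine Eq.trans ?_ (DirImgExt.snd_resE f M i.unop.le _)
        exact congrArg TrivSqZeroExt.snd
          (congr($(γ.naturality i) (show Γ(C, r ⁻¹ᵁ U.unop) from ι.app _ t)))))
  haveI := ClSubLib.isIso_unit s (ClSub.idealMod s.ker) (DefLift.killedBy_idealMod s.ker hI2)
  let G := (Scheme.Modules.pullback s).obj (ClSub.idealMod s.ker)
  exact ⟨((Scheme.Modules.pushforwardId D).app G).symm ≪≫ ((Scheme.Modules.pushforwardCongr hs).app G).symm ≪≫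
    ((Scheme.Modules.pushforwardComp s r).app G).symm ≪≫
    (Scheme.Modules.pushforward r).mapIso
      (asIso ((Scheme.Modules.pullbackPushforwardAdjunction s).unit.app (ClSub.idealMod s.ker))).symm ≪≫ e⟩

end Groth.Agent.SplitRibbon
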